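import Groth.Agent.Misc12.LaurentSplit.Series

/-!
# Sections of trivial covers over connected bases
-/

set_option autoImplicit false

universe u

open CategoryTheory CategoryTheory.Limits AlgebraicGeometry

namespace Groth.Misc12.LaurentSplit

variable {S : Scheme.{u}} {n : ℕ}

theorem exists_index {Z : Scheme.{u}} [ConnectedSpace Z]
    (j : Z ⟶ ∐ fun _ : Fin n => S) : ∃ (i : Fin n) (g : Z ⟶ S), g ≫ Sigma.ι (fun _ : Fin n => S) i = j := by
  classical
  obtain ⟨z⟩ := (inferInstance : Nonempty Z)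
  obtain ⟨i, y, hy⟩ := (AlgebraicGeometry.sigmaOpenCover fun _ : Fin n => S).exists_eq (j z)
  let V : Set Z := j ⁻¹' (Sigma.ι (fun _ : Fin n => S) i).opensRange
  have hV : IsClopen V := by
    refine ⟨⟨?_⟩, ((Sigma.ι (fun _ : Fin n => S) i).opensRange.isOpen).preimage j.continuous⟩
    have : Vᶜ = j ⁻¹' ⋃ k ∈ {k : Fin n | k ≠ i}, ((Sigma.ι (fun _ : Fin n => S) k).opensRange : Set _) := by
      ext w
      simp only [V, Set.mem_compl_iff, Set.mem_preimage, Set.mem_iUnion, Set.mem_ofPred_eq, exists_prop]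
      refine ⟨fun h => ?_, fun ⟨k, hk, hw⟩ hw' => ?_⟩
      · obtain ⟨k, y', hy'⟩ := (AlgebraicGeometry.sigmaOpenCover fun _ : Fin n => S).exists_eq (j w)
        exact ⟨k, fun hk => h (hk ▸ ⟨y', hy'⟩), ⟨y', hy'⟩⟩
      · exact (AlgebraicGeometry.disjoint_opensRange_sigmaι (fun _ : Fin n => S) k i hk).le_bot ⟨hw, hw'⟩
    rw [this]
    exact (isOpen_biUnion fun k _ => (Sigma.ι (fun _ : Fin n => S) k).opensRange.isOpen).preimage j.continuous
  have htop : V = Set.univ := hV.eq_univ ⟨z, y, hy⟩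
  refine ⟨i, IsOpenImmersion.lift (Sigma.ι (fun _ : Fin n => S) i) j ?_, IsOpenImmersion.lift_fac _ _ _⟩
  rintro _ ⟨w, rfl⟩
  exact (Set.eq_univ_iff_forall.1 htop w : w ∈ V)

theorem index_unique {Z : Scheme.{u}} [Nonempty Z] (g g' : Z ⟶ S) (i i' : Fin n)
    (h : g ≫ Sigma.ι (fun _ : Fin n => S) i = g' ≫ Sigma.ι (fun _ : Fin n => S) i') : i = i' := by
  by_contra hne
  obtain ⟨z⟩ := ‹Nonempty Z›
  exact (AlgebraicGeometry.isEmpty_of_commSq_sigmaι_of_ne ⟨h⟩ hne).false z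

/-- For a trivial cover of `S`, sections over a connected `S`-scheme are constant. -/
theorem exists_section_eq {Y : Scheme.{u}} (q : Y ⟶ S) (e : Y ≅ ∐ fun _ : Fin n => S)
    (he : e.hom ≫ Sigma.desc (fun _ : Fin n => 𝟙 S) = q) {Z : Scheme.{u}} [ConnectedSpace Z] (v : Z ⟶ S)
    (j : Z ⟶ Y) (hj : j ≫ q = v) : ∃ i : Fin n, j = v ≫ Sigma.ι (fun _ : Fin n => S) i ≫ e.inv := by
  obtain ⟨i, g, hg⟩ := exists_index (j ≫ e.hom)
  have hgv : g = v := by
    rw [← hj, ← he, ← Category.assoc, ← hg, Category.assoc, Sigma.ι_desc, Category.comp_id]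
  exact ⟨i, by rw [← Category.assoc, ← hgv, hg, Category.assoc, Iso.hom_inv_id, Category.comp_id]⟩

theorem section_hom {Y : Scheme.{u}} (q : Y ⟶ S) (e : Y ≅ ∐ fun _ : Fin n => S)
    (he : e.hom ≫ Sigma.desc (fun _ : Fin n => 𝟙 S) = q) (i : Fin n) :
    (Sigma.ι (fun _ : Fin n => S) i ≫ e.inv) ≫ q = 𝟙 S := by
  rw [← he, Category.assoc, e.inv_hom_id_assoc, Sigma.ι_desc]

theorem connectedSpace_spec (Q : Type u) [CommRing Q] [Nontrivial Q]
    (h : ∀ e : Q, IsIdempotentElem e → e = 0 ∨ e = 1) : ConnectedSpace (Spec (CommRingCat.of Q)) := by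
  haveI : Nonempty (PrimeSpectrum Q) := inferInstance
  refine @ConnectedSpace.mk _ _ ?_ this
  exact preconnectedSpace_iff_clopen.2 fun s hs => by
    obtain ⟨e, he, rfl⟩ := PrimeSpectrum.exists_idempotent_basicOpen_eq_of_isClopen (R := Q) hs
    rcases h e he with rfl | rfl
    · left
      exact congrArg _ (PrimeSpectrum.basicOpen_zero (R := Q))
    · right
      exact congrArg _ (PrimeSpectrum.basicOpen_one (R := Q))

end Groth.Misc12.LaurentSplit
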