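import Mathlib
import Groth.Agent.Calg7.TameDVR
import Groth.Agent.S15768

/-!
# Laurent series over a strictly henselian ring and the substitution `t ↦ t^d`
-/

set_option autoImplicit false

universe u

namespace Groth.Misc12.LaurentSplit

open IsLocalRing

variable {R : Type u} [CommRing R]

/-- The rescaling `∑ aₙ tⁿ ↦ ∑ ζⁿ aₙ tⁿ`. -/
noncomputable def twist (ζ : Rˣ) : LaurentSeries R →+* LaurentSeries R where
  toFun x :=
    { coeff := fun n => ((ζ ^ n : Rˣ) : R) * x.coeff n
      isPWO_support' := x.isPWO_support.mono fun n hn => by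
        rw [Function.mem_support] at hn
        exact fun h => hn (by rw [h, mul_zero]) }
  map_zero' := by ext n; simp
  map_add' x y := by ext n; simp [mul_add]
  map_one' := by
    ext n
    by_cases h : n = 0
    · subst h; simp
    · simp [HahnSeries.coeff_one, h]
  map_mul' x y := by
    set tx : LaurentSeries R :=
      { coeff := fun n => ((ζ ^ n : Rˣ) : R) * x.coeff n
        isPWO_support' := x.isPWO_support.mono fun n hn => by
          rw [Function.mem_support] at hn
          exact fun h => hn (by rw [h, mul_zero]) } with htx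
    set ty : LaurentSeries R :=
      { coeff := fun n => ((ζ ^ n : Rˣ) : R) * y.coeff n
        isPWO_support' := y.isPWO_support.mono fun n hn => by
          rw [Function.mem_support] at hn
          exact fun h => hn (by rw [h, mul_zero]) } with hty
    ext n
    have hsx : tx.support = x.support := Set.ext fun m => by
      simp [HahnSeries.mem_support, htx, (ζ ^ m).isUnit.mul_right_eq_zero]
    have hsy : ty.support = y.support := Set.ext fun m => by
      simp [HahnSeries.mem_support, hty, (ζ ^ m).isUnit.mul_right_eq_zero]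
    show ((ζ ^ n : Rˣ) : R) * (x * y).coeff n = (tx * ty).coeff n
    rw [HahnSeries.coeff_mul, HahnSeries.coeff_mul, Finset.mul_sum]
    refine Finset.sum_congr (by simp only [hsx, hsy]) fun ij hij => ?_
    rw [Finset.mem_antidiagonal] at hij
    rw [← hij.2.2, zpow_add, Units.val_mul, htx, hty]
    ring

@[simp] theorem coeff_twist (ζ : Rˣ) (x : LaurentSeries R) (n : ℤ) :
    (twist ζ x).coeff n = ((ζ ^ n : Rˣ) : R) * x.coeff n := rfl

variable {d : ℕ} (hinj : Function.Injective (AddMonoidHom.mulLeft (d : ℤ)))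
  (hmono : ∀ g g' : ℤ, AddMonoidHom.mulLeft (d : ℤ) g ≤ AddMonoidHom.mulLeft (d : ℤ) g' ↔ g ≤ g')

/-- The substitution `t ↦ t^d`. -/
noncomputable abbrev emb : LaurentSeries R →+* LaurentSeries R :=
  HahnSeries.embDomainRingHom (R := R) (AddMonoidHom.mulLeft (d : ℤ)) hinj hmono

theorem coeff_emb (x : LaurentSeries R) (n : ℤ) :
    (emb hinj hmono x).coeff ((d : ℤ) * n) = x.coeff n :=
  HahnSeries.embDomain_coeff

theorem coeff_emb_of_not_dvd (x : LaurentSeries R) (n : ℤ) (hn : ¬ (d : ℤ) ∣ n) :
    (emb hinj hmono x).coeff n = 0 :=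
  HahnSeries.embDomain_notin_image_support fun ⟨m, _, hm⟩ => hn ⟨m, hm.symm⟩

theorem emb_injective : Function.Injective (emb (R := R) hinj hmono) := HahnSeries.embDomain_injective

theorem twist_emb (ζ : Rˣ) (hζ : ζ ^ d = 1) (x : LaurentSeries R) :
    twist ζ (emb hinj hmono x) = emb hinj hmono x := by
  ext n
  rw [coeff_twist]
  by_cases hn : (d : ℤ) ∣ n
  · obtain ⟨m, rfl⟩ := hn
    rw [zpow_mul, zpow_natCast, hζ, one_zpow, Units.val_one, one_mul]
  · rw [coeff_emb_of_not_dvd _ _ _ _ hn, mul_zero]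

include hmono in
theorem mem_range_emb (hd : 0 < d) (x : LaurentSeries R) (hx : ∀ n, ¬ (d : ℤ) ∣ n → x.coeff n = 0) :
    x ∈ Set.range (emb hinj hmono) := by
  have hd' : (0 : ℤ) < d := by exact_mod_cast hd
  let y : LaurentSeries R :=
    { coeff := fun m => x.coeff ((d : ℤ) * m)
      isPWO_support' := by
        refine Set.IsPWO.mono ((Set.IsPWO.image_of_monotone (f := fun n : ℤ => n / (d : ℤ)) x.isPWO_support
          (fun a b h => Int.ediv_le_ediv hd' h))) fun m hm => ?_
        exact ⟨(d : ℤ) * m, hm, Int.mul_ediv_cancel_left m hd'.ne'⟩ }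
  refine ⟨y, ?_⟩
  ext n
  by_cases hn : (d : ℤ) ∣ n
  · obtain ⟨m, rfl⟩ := hn
    exact coeff_emb hinj hmono y m
  · rw [coeff_emb_of_not_dvd _ _ _ _ hn, hx n hn]

/-- A primitive root of unity separating residues mod `d`. -/
theorem exists_root [HenselianLocalRing R] [IsSepClosed (ResidueField R)] (hd : 0 < d) (hdu : IsUnit (d : R)) :
    ∃ ζ : Rˣ, ζ ^ d = 1 ∧ ∀ n : ℤ, ¬ (d : ℤ) ∣ n → IsUnit (((ζ ^ n : Rˣ) : R) - 1) := by
  haveI : NeZero (d : ResidueField R) := ⟨by
    rw [← map_natCast (residue R)]; exact (residue_ne_zero_iff_isUnit _).2 hdu⟩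
  haveI : NeZero d := ⟨hd.ne'⟩
  obtain ⟨z, hz⟩ := HasEnoughRootsOfUnity.exists_primitiveRoot (ResidueField R) d
  obtain ⟨c, rfl⟩ := residue_surjective z
  have hcu : IsUnit c := (residue_ne_zero_iff_isUnit c).1 (hz.ne_zero hd.ne')
  obtain ⟨a, ha, hac⟩ := Groth.Calg7.TameDVR.exists_root_of_residue hd.ne' hdu 1 c hcu
    (by rw [← residue_eq_zero_iff]; simp [hz.pow_eq_one])
  have hau : IsUnit a := (isUnit_pow_iff hd.ne').1 (ha ▸ isUnit_one)
  have hres : residue R a = residue R c := sub_eq_zero.1 (by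
    rw [← map_sub]; exact (residue_eq_zero_iff _).2 hac)
  refine ⟨hau.unit, Units.ext (by simpa using ha), fun n hn => (residue_ne_zero_iff_isUnit _).1 fun h => hn ?_⟩
  rw [map_sub, map_one, sub_eq_zero] at h
  have h' : (Units.map (residue R).toMonoidHom hau.unit) ^ n = 1 := by
    rw [← map_zpow]
    exact Units.ext h
  have hz' : IsPrimitiveRoot (Units.map (residue R).toMonoidHom hau.unit) d := by
    rw [← IsPrimitiveRoot.coe_units_iff]
    simpa [hres] using hz
  exact (hz'.zpow_eq_one_iff_dvd n).1 h'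

variable [IsLocalRing R] (ρ : LaurentSeries R →+* LaurentSeries (ResidueField R))
  (hρ : ρ.comp (HahnSeries.ofPowerSeries ℤ R) =
    (HahnSeries.ofPowerSeries ℤ (ResidueField R)).comp (PowerSeries.map (residue R)))
include hρ

theorem coeff_rho (x : LaurentSeries R) (n : ℤ) : (ρ x).coeff n = residue R (x.coeff n) := by
  have cm : ∀ (z : LaurentSeries R) (m : ℤ), (z.map (residue R)).coeff m = residue R (z.coeff m) :=
    fun _ _ => rfl
  suffices h : ρ x = x.map (residue R) by rw [h]; rfl
  have hps : ∀ p : PowerSeries R, ρ (HahnSeries.ofPowerSeries ℤ R p) =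
      (HahnSeries.ofPowerSeries ℤ R p).map (residue R) := fun p => by
    rw [← RingHom.comp_apply, hρ, RingHom.comp_apply]
    ext m
    rw [cm, PowerSeries.coeff_coe, PowerSeries.coeff_coe]
    split_ifs with hm
    · simp
    · rw [PowerSeries.coeff_map]
  have hsingle : ∀ m : ℤ, ρ (HahnSeries.single m (1 : R)) = HahnSeries.single m (1 : ResidueField R) := by
    have hnat : ∀ k : ℕ, ρ (HahnSeries.single (k : ℤ) (1 : R)) = HahnSeries.single (k : ℤ) 1 := fun k => by
      rw [← HahnSeries.ofPowerSeries_X_pow (Γ := ℤ) k, ← RingHom.comp_apply, hρ, RingHom.comp_apply, map_pow,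
        PowerSeries.map_X, HahnSeries.ofPowerSeries_X_pow]
    intro m
    obtain ⟨k, rfl | rfl⟩ := Int.eq_nat_or_neg m
    · exact hnat k
    · refine left_inv_eq_right_inv (a := HahnSeries.single (k : ℤ) (1 : ResidueField R)) ?_ ?_
      · rw [← hnat, ← map_mul, HahnSeries.single_mul_single, neg_add_cancel, mul_one]
        exact map_one ρ
      · rw [HahnSeries.single_mul_single, add_neg_cancel, mul_one]
        rfl
  conv_lhs => rw [← LaurentSeries.single_order_mul_powerSeriesPart x]
  rw [map_mul, hsingle, hps]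
  ext m
  rw [← sub_add_cancel m x.order, HahnSeries.coeff_single_mul_add, one_mul, cm, cm]
  congr 1
  have h2 := congrArg (fun z : LaurentSeries R => z.coeff (m - x.order + x.order))
    (LaurentSeries.single_order_mul_powerSeriesPart x)
  simp only [HahnSeries.coeff_single_mul_add, one_mul] at h2
  exact h2

theorem rho_emb (x : LaurentSeries R) :
    ρ (emb hinj hmono x) = emb (R := ResidueField R) hinj hmono (ρ x) := by
  ext n
  rw [coeff_rho ρ hρ]
  by_cases hn : (d : ℤ) ∣ n
  · obtain ⟨m, rfl⟩ := hn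
    rw [coeff_emb, coeff_emb, coeff_rho ρ hρ]
  · rw [coeff_emb_of_not_dvd _ _ _ _ hn, coeff_emb_of_not_dvd _ _ _ _ hn, map_zero]

theorem rho_twist (ζ : Rˣ) (x : LaurentSeries R) :
    ρ (twist ζ x) = twist (Units.map (residue R).toMonoidHom ζ) (ρ x) := by
  ext n
  rw [coeff_rho ρ hρ, coeff_twist, coeff_twist, coeff_rho ρ hρ, map_mul, ← map_zpow]
  rfl

omit hρ in
/-- The only idempotents of Laurent series over a local ring are `0` and `1`. -/
theorem idempotent_eq (e : LaurentSeries R) (he : IsIdempotentElem e) : e = 0 ∨ e = 1 := by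
  let η : Localization.Away (PowerSeries.X : PowerSeries R) ≃ₐ[PowerSeries R] LaurentSeries R :=
    IsLocalization.algEquiv (Submonoid.powers (PowerSeries.X : PowerSeries R)) _ _
  obtain ⟨r, hr, hre⟩ := Groth.Agent.S15768.ps_idem R (η.symm e) (he.map η.symm.toAlgHom)
  have h := congrArg η hre
  rw [η.commutes, η.apply_symm_apply] at h
  rcases IsLocalRing.isUnit_or_isUnit_one_sub_self r with hu | hu
  · right
    rw [← h, hu.mul_left_cancel (show r * r = r * 1 by rw [hr.eq, mul_one]), map_one, map_one]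
  · left
    rw [← h, hu.mul_right_eq_zero.mp (show (1 - r) * r = 0 by rw [sub_mul, one_mul, hr.eq, sub_self]),
      map_zero, map_zero]

end Groth.Misc12.LaurentSplit
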